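import Groth.Agent.ParGP23.Tensor
import Groth.Agent.VB5.Basic
import Groth.Agent.SerreDual.HomLinear
import Groth.Agent.VarietyLib.CurveDegreeApps
import Groth.Agent.VarietyLib.CurveDegree
import Groth.Agent.FlatMor12.IdealModGen

/-!
# The space `H⁰(E ⊗ O_D)` on a curve
-/

set_option autoImplicit false
set_option linter.style.haveILetI false
set_option linter.unusedSectionVars false
set_option backward.isDefEq.respectTransparency.types false

universe u

open CategoryTheory CategoryTheory.Limits AlgebraicGeometry Opposite TopologicalSpace MonoidalCategory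
open Groth.Agent.Coherent Groth.Agent.AmpleLib Groth.Agent.EulerLib Groth.Agent.CurveRR24 Groth.Agent.ModStalk
open Groth.Agent.VB5 (grk gdeg grk_eq grk_additive gdeg_additive)

namespace Groth.Agent.ParGP23

variable (k : Type u) [Field k] {X : Scheme.{u}} [X.Over (Spec (CommRingCat.of k))]

/-- The map on `H⁰` of restrictions is `hmap`. -/
theorem fibDMap_eq (I : X.IdealSheafData) {E F : X.Modules} (φ : E ⟶ F) :
    ParSh.fibDMap k X I φ = SerreDual.hmap k (ParSh.resDMap I φ) 0 :=
  LinearMap.ext fun x => (SerreDual.hmap_eq k _ 0 x).symm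

theorem hmap_injective_of_mono {A B : X.Modules} (f : A ⟶ B) [Mono f] :
    Function.Injective (SerreDual.hmap k f 0) := fun a b h => by
  apply (SerreDual.hBE k A 0).injective
  refine postA_zero_injective (baseHom k X) (EulerLib.shortExact_cokernel f) ⊤ ?_
  have h' := congrArg (SerreDual.hBE k B 0) h
  rw [SerreDual.hmap_eq, SerreDual.hmap_eq, SerreDual.hBE_natural, SerreDual.hBE_natural] at h'
  exact h'

section Fun

variable (I : X.IdealSheafData)

theorem resDMap_comp {E F G : X.Modules} (f : E ⟶ F) (g : F ⟶ G) :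
    ParSh.resDMap I (f ≫ g) = ParSh.resDMap I f ≫ ParSh.resDMap I g := by
  refine AmpleLib.hom_ext fun U a b => ?_
  simp only [ParSh.resDMap, koszMap_eq, Scheme.Modules.Hom.comp_app, ConcreteCategory.comp_apply, tensorMap_tmul]
  rfl

theorem fibDMap_comp {E F G : X.Modules} (f : E ⟶ F) (g : F ⟶ G) :
    ParSh.fibDMap k X I (f ≫ g) = ParSh.fibDMap k X I g ∘ₗ ParSh.fibDMap k X I f := by
  rw [fibDMap_eq, fibDMap_eq, fibDMap_eq, resDMap_comp, SerreDual.hmap_comp]

theorem fibDMap_eq_lin {E F : X.Modules} (φ : E ⟶ F) :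
    ParSh.fibDMap k X I φ = SerreDual.hmap k (SerreDual.tensorRightHom k E F (ClSub.quotMod I) φ) 0 := by
  rw [fibDMap_eq]
  exact congrArg (fun t => SerreDual.hmap k t 0) (koszMap_eq φ (𝟙 _))

theorem fibDMap_id (E : X.Modules) : ParSh.fibDMap k X I (𝟙 E) = LinearMap.id := by
  rw [fibDMap_eq, ← SerreDual.hmap_id k (ParSh.resD I E) 0]
  refine congrArg (fun t => SerreDual.hmap k t 0) (AmpleLib.hom_ext fun U a b => ?_)
  simp only [ParSh.resDMap, koszMap_eq, tensorMap_tmul]
  rfl

theorem fibDMap_sub_smul {E F : X.Modules} (f g : E ⟶ F) (c : k) :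
    ParSh.fibDMap k X I (f - c • g) = ParSh.fibDMap k X I f - c • ParSh.fibDMap k X I g := by
  have h : f - c • g = f + (-c) • g := by rw [neg_smul, sub_eq_add_neg]
  rw [h, fibDMap_eq_lin, fibDMap_eq_lin, fibDMap_eq_lin, map_add, map_smul, SerreDual.hmap_add,
    SerreDual.hmap_smul, neg_smul, ← sub_eq_add_neg]

end Fun

variable [IsIntegral X] [IsProper (X ↘ Spec (CommRingCat.of k))] [IsLocallyNoetherian X]
  (hdim : topologicalKrullDim X ≤ 1)

theorem grk_sub_zero {S : ShortComplex X.Modules} (hS : S.ShortExact) (h2 : Coh.IsCoh S.X₂)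
    (h0 : grk S.X₂ = 0) : grk S.X₁ = 0 ∧ grk S.X₃ = 0 := by
  have := grk_additive hS h2
  omega

omit [IsProper (X ↘ Spec (CommRingCat.of k))] in
theorem genericPoint_notMem_support {Q : X.Modules} (hQ : Coh.IsCoh Q) (h0 : grk Q = 0) :
    genericPoint X ∉ CohB1.support Q := by
  refine (Coherent.notMem_support_iff _ _).2 (ModuleCat.isZero_iff_subsingleton.2 ?_)
  haveI := VB5.finite_generic hQ
  exact (Module.finrank_zero_iff (R := X.functionField) (M := Q.presheaf.stalk (genericPoint X))).1 h0

include k hdim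

theorem subsingleton_h1 {Q : X.Modules} (hQ : Coh.IsCoh Q) (h0 : grk Q = 0) : Subsingleton (Coh.HH X Q 1) :=
  subsingleton_HH_of_small k hdim hQ.1 (Coherent.isClosed_support _ (Coherent.locallyFinGen_of_isFT _ hQ.2))
    (genericPoint_notMem_support hQ h0) subset_rfl one_pos

theorem h0_eq_euler {Q : X.Modules} (hQ : Coh.IsCoh Q) (h0 : grk Q = 0) :
    (Module.finrank k (Coh.HH X Q 0) : ℤ) = Curv2.euler k X Q :=
  (euler_eq_h0_of_small k hdim hQ.1 (Coherent.isClosed_support _ (Coherent.locallyFinGen_of_isFT _ hQ.2))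
    (genericPoint_notMem_support hQ h0) subset_rfl).symm

theorem hmap_surjective_of_epi {A B : X.Modules} (g : A ⟶ B) [Epi g] (hA : Coh.IsCoh A) (hB : Coh.IsCoh B)
    (h0 : grk A = 0) : Function.Surjective (SerreDual.hmap k g 0) :=
  SerreDual.hmap_surjective_of_shortExact k (EulerLib.shortExact_kernel g) 0
    (subsingleton_h1 k hdim (Coherent.isCoh_kernel g hA hB.1)
      (grk_sub_zero (EulerLib.shortExact_kernel g) hA h0).1)

/-- `H⁰` is exact on modules of finite support. -/
theorem exact_hmap_torsion {S : ShortComplex X.Modules} (hS : S.Exact) (hg : Epi S.g)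
    (h1 : Coh.IsCoh S.X₁) (h2 : Coh.IsCoh S.X₂) (h3 : Coh.IsCoh S.X₃) (t1 : grk S.X₁ = 0) (t2 : grk S.X₂ = 0) :
    Function.Exact (SerreDual.hmap k S.f 0) (SerreDual.hmap k S.g 0) ∧
      Function.Surjective (SerreDual.hmap k S.g 0) := by
  refine ⟨?_, hmap_surjective_of_epi k hdim S.g h2 h3 t2⟩
  have hK := Coherent.isCoh_kernel S.g h2 h3.1
  haveI : Epi (kernel.lift S.g S.f S.zero) := hS.epi_kernelLift
  have hs := hmap_surjective_of_epi k hdim (kernel.lift S.g S.f S.zero) h1 hK t1
  have hex := SerreDual.exact_hmap k (EulerLib.shortExact_kernel S.g) 0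
  intro x
  refine ⟨fun hx => ?_, ?_⟩
  · obtain ⟨y, hy⟩ := (hex x).1 hx
    obtain ⟨z, hz⟩ := hs y
    refine ⟨z, ?_⟩
    rw [← kernel.lift_ι S.g S.f S.zero, SerreDual.hmap_comp, LinearMap.comp_apply, hz]
    exact hy
  · rintro ⟨z, rfl⟩
    rw [← LinearMap.comp_apply, ← SerreDual.hmap_comp, S.zero, SerreDual.hmap_zero]
    rfl

variable (I : X.IdealSheafData) (hD : FGA.IsEffCartier I)
include hD

theorem invertible_ideal : PicF.IsInvertible (ClSub.idealMod I) :=
  FlatMor12.IdealModGen.isInvertible_idealMod I hD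

theorem grk_quotMod : grk (ClSub.quotMod I) = 0 := by
  have h := grk_additive (CurveRR24.shortExact_ideal I) (isCoh_structureModule X)
  change grk (Coh.structureModule X) = grk (ClSub.idealMod I) + grk (ClSub.quotMod I) at h
  rw [VB5.rank_one (invertible_ideal k hdim I hD), VB5.rank_one isInvertible_structureModule] at h
  omega

theorem isCoh_resD {E : X.Modules} (hE : Coh.IsCoh E) : Coh.IsCoh (ParSh.resD I E) :=
  VarietyLib.isCoh_tensor' hE (isCoh_quotMod I)

theorem grk_resD (E : X.Modules) : grk (ParSh.resD I E) = 0 := by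
  have hQ : Subsingleton ((DerSch.stalkFunctor X (genericPoint X)).obj (ClSub.quotMod I)) :=
    ModuleCat.isZero_iff_subsingleton.1
      ((Coherent.notMem_support_iff _ _).1 (genericPoint_notMem_support (isCoh_quotMod I) (grk_quotMod k hdim I hD)))
  haveI hs : Subsingleton ((DerSch.stalkFunctor X (genericPoint X)).obj (ParSh.resD I E)) :=
    (stalkTensorIso (genericPoint X) E (ClSub.quotMod I)).toLinearEquiv.toEquiv.subsingleton_congr.2
      (subsingleton_of_forall_eq 0 fun t => by
        induction t using TensorProduct.induction_on with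
        | zero => rfl
        | tmul a b => rw [Subsingleton.elim b 0, TensorProduct.tmul_zero]
        | add a b ha hb => rw [ha, hb, add_zero])
  haveI : Subsingleton ((ParSh.resD I E).presheaf.stalk (genericPoint X)) := hs
  exact Module.finrank_zero_of_subsingleton (R := X.functionField) (M := (ParSh.resD I E).presheaf.stalk (genericPoint X))

theorem finite_fibD {E : X.Modules} (hE : Coh.IsCoh E) : Module.Finite k (ParSh.fibD X I E) :=
  CurveRR24.finite_HH_of_isCoh k (isCoh_resD k hdim I hD hE) 0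

/-- `dim H⁰(E ⊗ O_D) = -n deg I`. -/
theorem finrank_fibD {n : ℕ} {E : X.Modules} (hE : FlatMod.IsFinLocFreeOfRank n E) :
    (Module.finrank k (ParSh.fibD X I E) : ℤ) = -(n : ℤ) * Curv2.deg k X (ClSub.idealMod I) 1 := by
  have hI := invertible_ideal k hdim I hD
  have hIr := PicLib.isFinLocFreeOfRank_one hI
  have hEc : Coh.IsCoh E := SplitP1.isCoh_of_rank hE
  obtain ⟨T, hT, e1, e2, e3⟩ := VarietyLib.exists_tensorSeq (CurveRR24.shortExact_ideal I) E
    (fun x => VarietyLib.flat_stalk_of_rank hE x)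
  change T.X₁ = CohB1.tensorMod (ClSub.idealMod I) E at e1
  change T.X₂ = CohB1.tensorMod (Coh.structureModule X) E at e2
  change T.X₃ = CohB1.tensorMod (ClSub.quotMod I) E at e3
  have h := euler_additive k X T hT (e1 ▸ VarietyLib.isCoh_tensor' (isCoh_idealMod' I) hEc)
    (e2 ▸ VarietyLib.isCoh_tensor' (isCoh_structureModule X) hEc)
    (e3 ▸ VarietyLib.isCoh_tensor' (isCoh_quotMod I) hEc)
  rw [e1, e2, e3, euler_congr k X (unitTensorIso E), euler_congr k X (tensorComm (ClSub.idealMod I) E),
    euler_congr k X (tensorComm (ClSub.quotMod I) E)] at h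
  have hd := VarietyLib.deg_tensor_rank k hdim hE hIr
  rw [h0_eq_euler k hdim (isCoh_resD k hdim I hD hEc) (grk_resD k hdim I hD E)]
  simp only [Curv2.deg, mul_one, Nat.cast_one, one_mul, ParSh.resD] at hd h ⊢
  linarith

/-- Right exactness on fibres. -/
theorem exact_fibDMap {S : ShortComplex X.Modules} (hS : S.ShortExact)
    (h1 : Coh.IsCoh S.X₁) (h2 : Coh.IsCoh S.X₂) (h3 : Coh.IsCoh S.X₃) :
    Function.Exact (ParSh.fibDMap k X I S.f) (ParSh.fibDMap k X I S.g) ∧
      Function.Surjective (ParSh.fibDMap k X I S.g) := by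
  obtain ⟨hz, hex, he⟩ := right_exact hS (ClSub.quotMod I)
  rw [fibDMap_eq, fibDMap_eq]
  exact exact_hmap_torsion k hdim hex he (isCoh_resD k hdim I hD h1) (isCoh_resD k hdim I hD h2)
    (isCoh_resD k hdim I hD h3) (grk_resD k hdim I hD _) (grk_resD k hdim I hD _)

/-- The kernel on fibres of a map of bundles of equal rank is bounded by the degree drop. -/
theorem finrank_ker_le {n : ℕ} {E F : X.Modules} (hE : FlatMod.IsFinLocFreeOfRank n E)
    (hF : FlatMod.IsFinLocFreeOfRank n F) (f : E ⟶ F) [Mono f] :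
    (Module.finrank k (LinearMap.ker (ParSh.fibDMap k X I f)) : ℤ) ≤ gdeg k F - gdeg k E := by
  have hEc : Coh.IsCoh E := SplitP1.isCoh_of_rank hE
  have hFc : Coh.IsCoh F := SplitP1.isCoh_of_rank hF
  have hTc : Coh.IsCoh (cokernel f) := Coherent.isCoh_cokernel f hEc.1 hFc
  have hS := EulerLib.shortExact_cokernel f
  have hT0 : grk (cokernel f) = 0 := by
    have := grk_additive hS hFc
    change grk F = grk E + grk (cokernel f) at this
    rw [grk_eq hE, grk_eq hF] at this
    omega
  haveI := finite_fibD k hdim I hD hEc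
  haveI := finite_fibD k hdim I hD hFc
  obtain ⟨hex, hsur⟩ := exact_fibDMap k hdim I hD hS hEc hFc hTc
  change Function.Exact (ParSh.fibDMap k X I f) (ParSh.fibDMap k X I (cokernel.π f)) at hex
  change Function.Surjective (ParSh.fibDMap k X I (cokernel.π f)) at hsur
  have r1 := LinearMap.finrank_range_add_finrank_ker (ParSh.fibDMap k X I f)
  have r2 := LinearMap.finrank_range_add_finrank_ker (ParSh.fibDMap k X I (cokernel.π f))
  rw [LinearMap.range_eq_top.2 hsur, finrank_top, LinearMap.exact_iff.1 hex] at r2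
  have d1 := finrank_fibD k hdim I hD hE
  have d2 := finrank_fibD k hdim I hD hF
  obtain ⟨q, hq⟩ := exists_epi_resD I (cokernel f)
  haveI := hq
  haveI := CurveRR24.finite_HH_of_isCoh k hTc 0
  have hle := LinearMap.finrank_le_finrank_of_surjective
    (hmap_surjective_of_epi k hdim q hTc (isCoh_resD k hdim I hD hTc) hT0)
  have hχ : gdeg k (cokernel f) = (Module.finrank k (Coh.HH X (cokernel f) 0) : ℤ) := by
    rw [h0_eq_euler k hdim hTc hT0, gdeg, hT0, Nat.cast_zero, zero_mul, sub_zero]
  have hadd := gdeg_additive k hS hEc hFc hTc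
  change gdeg k F = gdeg k E + gdeg k (cokernel f) at hadd
  change Module.finrank k (ParSh.fibD X I (cokernel f)) ≤ Module.finrank k (Coh.HH X (cokernel f) 0) at hle
  omega

end Groth.Agent.ParGP23
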