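import Groth.Agent.ParGP23.Fibre

/-!
# Generalized parabolic degree: comparison and the image of a parabolic map
-/

set_option autoImplicit false
set_option linter.style.haveILetI false
set_option linter.unusedSectionVars false
set_option backward.isDefEq.respectTransparency.types false

universe u

open CategoryTheory CategoryTheory.Limits AlgebraicGeometry
open Groth.Agent.Coherent Groth.Agent.AmpleLib Groth.Agent.EulerLib Groth.Agent.CurveRR24
open Groth.Agent.VB5 (grk gdeg grk_eq grk_additive gdeg_additive)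

namespace Groth.Agent.ParGP23

/-- The slope arithmetic of a map between semistable objects of equal slope. -/
theorem slope_arith {n m g r α ℓ pE pK pC pI pF pQ : ℝ} (hn : 0 < n) (hm : 0 < m) (hα : α < 1) (hr : n = r + g)
    (hK : pK * n ≤ pE * r) (hI : pI * m ≤ pF * g) (hQ : pQ * m ≤ pF * g) (hq : pE ≤ pK + pC) (hC : pC ≤ pI)
    (hl : pC + (1 - α) * ℓ ≤ pQ) (hμ : pE * m = pF * n) :
    ℓ ≤ 0 ∧ pE * r ≤ pK * n ∧ pF * g ≤ pI * m := by
  subst hr
  have u1 := mul_le_mul_of_nonneg_right hq hn.le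
  have low : pE * g ≤ pC * (r + g) := by linarith
  have μg : pE * g * m = pF * g * (r + g) := by linear_combination g * hμ
  have v1 := mul_le_mul_of_nonneg_right low hm.le
  have v2 := mul_le_mul_of_nonneg_right hC (mul_pos hn hm).le
  have v3 := mul_le_mul_of_nonneg_right hI hn.le
  have v4 := mul_le_mul_of_nonneg_right hl (mul_pos hn hm).le
  have v5 := mul_le_mul_of_nonneg_right hQ hn.le
  have v6 := mul_le_mul_of_nonneg_right hK hm.le
  have v7 := mul_le_mul_of_nonneg_right hq (mul_pos hn hm).le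
  refine ⟨?_, le_of_mul_le_mul_right ?_ hm, le_of_mul_le_mul_right ?_ hn⟩
  · by_contra hc
    push Not at hc
    have := mul_pos (mul_pos (sub_pos.2 hα) hc) (mul_pos hn hm)
    linarith
  · linarith
  · linarith

/-- Structures pushed along a factorisation lie in the pulled back ones. -/
theorem map_le_comap_of_comp {R A B C : Type*} [Semiring R] [AddCommMonoid A] [AddCommMonoid B] [AddCommMonoid C]
    [Module R A] [Module R B] [Module R C] (P : A →ₗ[R] B) (J : B →ₗ[R] C) (L : A →ₗ[R] C) (h : L = J ∘ₗ P)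
    {S : Submodule R A} {S' : Submodule R C} (hS : S.map L ≤ S') : S.map P ≤ S'.comap J := by
  subst h
  rintro _ ⟨x, hx, rfl⟩
  exact hS ⟨x, hx, rfl⟩

variable (k : Type u) [Field k] {X : Scheme.{u}} [X.Over (Spec (CommRingCat.of k))] [IsIntegral X]
  [IsLocallyNoetherian X]

/-- The parabolic degree with the intrinsic rank. -/
noncomputable def pd {I : X.IdealSheafData} (α : ℝ) (E : X.Modules) (S : Submodule k (ParSh.fibD X I E)) : ℝ :=
  (gdeg k E : ℝ) + α * (Module.finrank k S : ℝ)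

theorem gpDeg_eq_pd {I : X.IdealSheafData} (α : ℝ) {r : ℕ} {E : X.Modules} (hE : FlatMod.IsFinLocFreeOfRank r E)
    (S : Submodule k (ParSh.fibD X I E)) : ParSh.gpDeg k X α E S r = pd k α E S := by
  rw [ParSh.gpDeg, ParSh.gpWt, pd, VB5.deg_eq_gdeg k hE]

variable [IsProper (X ↘ Spec (CommRingCat.of k))]
  (hdim : topologicalKrullDim X = 1) (hn : ∀ x : X, IsIntegrallyClosed (X.presheaf.stalk x))
  (I : X.IdealSheafData) (hD : FGA.IsEffCartier I)
include k hdim hn hD

/-- Semistability bounds all coherent submodules. -/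
theorem sub_le {α : ℝ} {n : ℕ} {E : X.Modules} (hE : FlatMod.IsFinLocFreeOfRank n E)
    {F₁ : Submodule k (ParSh.fibD X I E)} (hss : ParSh.IsGPSemistable k X I α F₁ n)
    {G : X.Modules} (i : G ⟶ E) [Mono i] (hG : Coh.IsCoh G) :
    pd k α G (ParSh.gpInduced k X I i F₁) * (n : ℝ) ≤ pd k α E F₁ * (grk G : ℝ) := by
  obtain ⟨-, hGf⟩ := VB5.sub_bundle hdim.le hn hE i hG
  rcases Nat.eq_zero_or_pos (grk G) with h0 | h0
  · obtain ⟨-, hd⟩ := VB5.zero_rank_sub k hdim hn hE i hG h0
    have hf := finrank_fibD k hdim.le I hD hGf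
    rw [h0, Nat.cast_zero, neg_zero, zero_mul] at hf
    haveI := finite_fibD k hdim.le I hD hG
    have hle := Submodule.finrank_le (ParSh.gpInduced k X I i F₁)
    have hz : Module.finrank k (ParSh.gpInduced k X I i F₁) = 0 := by omega
    rw [pd, hd, hz, h0]
    simp
  · have h := hss G (grk G) i inferInstance h0 hGf
    rwa [gpDeg_eq_pd k α hGf, gpDeg_eq_pd k α hE] at h

/-- A full rank parabolic monomorphism raises the parabolic degree. -/
theorem mono_le {α : ℝ} (hα0 : 0 ≤ α) {n : ℕ} {E F : X.Modules} (hE : FlatMod.IsFinLocFreeOfRank n E)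
    (hF : FlatMod.IsFinLocFreeOfRank n F) (f : E ⟶ F) [Mono f]
    {S : Submodule k (ParSh.fibD X I E)} {S' : Submodule k (ParSh.fibD X I F)}
    (hf : S.map (ParSh.fibDMap k X I f) ≤ S') :
    pd k α E S + (1 - α) * ((gdeg k F - gdeg k E : ℤ) : ℝ) ≤ pd k α F S' := by
  have hker := finrank_ker_le k hdim.le I hD hE hF f
  haveI := finite_fibD k hdim.le I hD (SplitP1.isCoh_of_rank hE)
  haveI := finite_fibD k hdim.le I hD (SplitP1.isCoh_of_rank hF)
  have h1 := LinearMap.finrank_range_add_finrank_ker ((ParSh.fibDMap k X I f).domRestrict S)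
  rw [LinearMap.range_domRestrict] at h1
  have h2 := Submodule.finrank_mono hf
  have h3 : Module.finrank k (LinearMap.ker ((ParSh.fibDMap k X I f).domRestrict S)) ≤
      Module.finrank k (LinearMap.ker (ParSh.fibDMap k X I f)) := by
    have hle : (LinearMap.ker ((ParSh.fibDMap k X I f).domRestrict S)).map S.subtype ≤
        LinearMap.ker (ParSh.fibDMap k X I f) := by
      rintro x ⟨y, hy, rfl⟩
      exact hy
    have := Submodule.finrank_mono hle
    rwa [Submodule.finrank_map_subtype_eq] at this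
  have hZ : (Module.finrank k S : ℤ) ≤ (Module.finrank k S' : ℤ) + (gdeg k F - gdeg k E) := by omega
  have hR : (Module.finrank k S : ℝ) ≤ (Module.finrank k S' : ℝ) + ((gdeg k F - gdeg k E : ℤ) : ℝ) := by
    exact_mod_cast hZ
  have hm := mul_le_mul_of_nonneg_left hR hα0
  simp only [pd, Int.cast_sub] at hm ⊢
  linarith

/-- The parabolic degree is subadditive along a quotient bundle. -/
theorem quot_le {α : ℝ} (hα0 : 0 ≤ α) {n g : ℕ} {E G : X.Modules} (hE : FlatMod.IsFinLocFreeOfRank n E)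
    (hG : FlatMod.IsFinLocFreeOfRank g G) (p : E ⟶ G) [Epi p] (F₁ : Submodule k (ParSh.fibD X I E)) :
    pd k α E F₁ ≤ pd k α (kernel p) (ParSh.gpInduced k X I (kernel.ι p) F₁) +
      pd k α G (F₁.map (ParSh.fibDMap k X I p)) := by
  have hEc : Coh.IsCoh E := SplitP1.isCoh_of_rank hE
  have hGc : Coh.IsCoh G := SplitP1.isCoh_of_rank hG
  have hKc := Coherent.isCoh_kernel p hEc hGc.1
  have hS := EulerLib.shortExact_kernel p
  haveI := finite_fibD k hdim.le I hD hEc
  haveI := finite_fibD k hdim.le I hD hGc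
  haveI := finite_fibD k hdim.le I hD hKc
  obtain ⟨hex, -⟩ := exact_fibDMap k hdim.le I hD hS hKc hEc hGc
  change Function.Exact (ParSh.fibDMap k X I (kernel.ι p)) (ParSh.fibDMap k X I p) at hex
  have h1 := LinearMap.finrank_range_add_finrank_ker ((ParSh.fibDMap k X I p).domRestrict F₁)
  rw [LinearMap.range_domRestrict] at h1
  have h2 : Module.finrank k (LinearMap.ker ((ParSh.fibDMap k X I p).domRestrict F₁)) ≤
      Module.finrank k (ParSh.gpInduced k X I (kernel.ι p) F₁) := by
    let f := ParSh.fibDMap k X I (kernel.ι p) ∘ₗ (ParSh.gpInduced k X I (kernel.ι p) F₁).subtype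
    have hle : (LinearMap.ker ((ParSh.fibDMap k X I p).domRestrict F₁)).map F₁.subtype ≤ LinearMap.range f := by
      rintro x ⟨⟨y, hyF⟩, hy, rfl⟩
      obtain ⟨z, hz⟩ := (hex y).1 hy
      exact ⟨⟨z, show ParSh.fibDMap k X I (kernel.ι p) z ∈ F₁ from hz ▸ hyF⟩, hz⟩
    have := (Submodule.finrank_mono hle).trans (LinearMap.finrank_range_le f)
    rwa [Submodule.finrank_map_subtype_eq] at this
  have hadd := gdeg_additive k hS hKc hEc hGc
  change gdeg k E = gdeg k (kernel p) + gdeg k G at hadd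
  have hR : (Module.finrank k F₁ : ℝ) ≤ (Module.finrank k (ParSh.gpInduced k X I (kernel.ι p) F₁) : ℝ) +
      (Module.finrank k (F₁.map (ParSh.fibDMap k X I p)) : ℝ) := by
    have : Module.finrank k F₁ ≤ Module.finrank k (ParSh.gpInduced k X I (kernel.ι p) F₁) +
      Module.finrank k (F₁.map (ParSh.fibDMap k X I p)) := by omega
    exact_mod_cast this
  have hm := mul_le_mul_of_nonneg_left hR hα0
  simp only [pd, hadd, Int.cast_add]
  linarith

/-- A nonzero parabolic map between semistable objects of equal slope factors through a bundle with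
bundle cokernel, and every comparison of slopes is an equality. -/
theorem exists_factor {α : ℝ} (hα0 : 0 ≤ α) (hα1 : α < 1) {n m : ℕ} (hn0 : 0 < n) (hm0 : 0 < m)
    {E F : X.Modules} (hE : FlatMod.IsFinLocFreeOfRank n E) (hF : FlatMod.IsFinLocFreeOfRank m F)
    {F₁ : Submodule k (ParSh.fibD X I E)} {F₁' : Submodule k (ParSh.fibD X I F)}
    (hEss : ParSh.IsGPSemistable k X I α F₁ n) (hFss : ParSh.IsGPSemistable k X I α F₁' m)
    (hμ : pd k α E F₁ * (m : ℝ) = pd k α F F₁' * (n : ℝ))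
    (f : E ⟶ F) (hf : F₁.map (ParSh.fibDMap k X I f) ≤ F₁') (hf0 : f ≠ 0) :
    ∃ (G : X.Modules) (p : E ⟶ G) (j : G ⟶ F), Epi p ∧ Mono j ∧ p ≫ j = f ∧ 0 < grk G ∧
      FlatMod.IsFinLocFreeOfRank (grk G) G ∧ (∃ r₀, FlatMod.IsFinLocFreeOfRank r₀ (cokernel f)) ∧
      pd k α (kernel p) (ParSh.gpInduced k X I (kernel.ι p) F₁) * (n : ℝ) = pd k α E F₁ * (grk (kernel p) : ℝ) ∧
      pd k α G (ParSh.gpInduced k X I j F₁') * (m : ℝ) = pd k α F F₁' * (grk G : ℝ) := by
  obtain ⟨G, p, j, hp, hj, hpj, hGc, hG0⟩ := VB5.exists_image k hdim hn hE hF f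
  haveI := hp; haveI := hj
  obtain ⟨-, hGf⟩ := VB5.sub_bundle hdim.le hn hF j hGc
  have hEc : Coh.IsCoh E := SplitP1.isCoh_of_rank hE
  have hFc : Coh.IsCoh F := SplitP1.isCoh_of_rank hF
  have hKc := Coherent.isCoh_kernel p hEc hGc.1
  have hK := sub_le k hdim hn I hD hE hEss (kernel.ι p) hKc
  have hG := sub_le k hdim hn I hD hF hFss j hGc
  have hq := quot_le k hdim hn I hD hα0 hE hGf p F₁
  have hrk := grk_additive (EulerLib.shortExact_kernel p) hEc
  change grk E = grk (kernel p) + grk G at hrk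
  rw [grk_eq hE] at hrk
  have hrkR : (n : ℝ) = (grk (kernel p) : ℝ) + (grk G : ℝ) := by exact_mod_cast hrk
  -- the image with the coinduced structure inside the induced one
  have hsub : F₁.map (ParSh.fibDMap k X I p) ≤ ParSh.gpInduced k X I j F₁' :=
    map_le_comap_of_comp _ _ (ParSh.fibDMap k X I f)
      ((congrArg (ParSh.fibDMap k X I) hpj).symm.trans (fibDMap_comp k I p j)) hf
  -- saturation
  have hQc := Coherent.isCoh_cokernel j hGc.1 hFc
  obtain ⟨P, π, hπ, hP, hT⟩ := VB5.exists_tf_quotient hdim.le hn hQc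
  haveI := hπ
  have hPc : Coh.IsCoh P := SplitP1.isCoh_of_rank hP
  let q := cokernel.π j ≫ π
  haveI : Epi q := epi_comp _ _
  let l : G ⟶ kernel q := kernel.lift q j (by simp [q])
  have hl : l ≫ kernel.ι q = j := kernel.lift_ι _ _ _
  haveI : Mono (l ≫ kernel.ι q) := hl ▸ hj
  haveI : Mono l := mono_of_mono l (kernel.ι q)
  have hG'c := Coherent.isCoh_kernel q hFc hPc.1
  have hTc := Coherent.isCoh_kernel π hQc hPc.1
  have r1 := grk_additive (EulerLib.shortExact_cokernel j) hFc
  have r2 := grk_additive (EulerLib.shortExact_kernel q) hFc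
  change grk F = grk G + grk (cokernel j) at r1
  change grk F = grk (kernel q) + grk P at r2
  rw [grk_eq hP] at r2
  have hrG' : grk (kernel q) = grk G := by omega
  have hG'f := (VB5.sub_bundle hdim.le hn hF (kernel.ι q) hG'c).2
  rw [hrG'] at hG'f
  have d1 := gdeg_additive k (EulerLib.shortExact_cokernel j) hGc hFc hQc
  have d2 := gdeg_additive k (EulerLib.shortExact_kernel q) hG'c hFc hPc
  have d3 := gdeg_additive k (EulerLib.shortExact_kernel π) hTc hQc hPc
  change gdeg k F = gdeg k G + gdeg k (cokernel j) at d1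
  change gdeg k F = gdeg k (kernel q) + gdeg k P at d2
  change gdeg k (cokernel j) = gdeg k (kernel π) + gdeg k P at d3
  obtain ⟨hℓ, hℓ0⟩ := VB5.torsion_deg k hdim hTc hT
  have hsub' : (F₁.map (ParSh.fibDMap k X I p)).map (ParSh.fibDMap k X I l) ≤
      ParSh.gpInduced k X I (kernel.ι q) F₁' :=
    map_le_comap_of_comp _ _ (ParSh.fibDMap k X I j)
      ((congrArg (ParSh.fibDMap k X I) hl).symm.trans (fibDMap_comp k I l (kernel.ι q)))
      (Submodule.map_le_iff_le_comap.2 hsub)
  have hG' := sub_le k hdim hn I hD hF hFss (kernel.ι q) hG'c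
  rw [hrG'] at hG'
  have hmo := mono_le k hdim hn I hD hα0 hGf hG'f l hsub'
  haveI := finite_fibD k hdim.le I hD hGc
  have hC : pd k α G (F₁.map (ParSh.fibDMap k X I p)) ≤ pd k α G (ParSh.gpInduced k X I j F₁') := by
    have : (Module.finrank k (F₁.map (ParSh.fibDMap k X I p)) : ℝ) ≤
        (Module.finrank k (ParSh.gpInduced k X I j F₁') : ℝ) := by exact_mod_cast Submodule.finrank_mono hsub
    have := mul_le_mul_of_nonneg_left this hα0
    simp only [pd]
    linarith
  obtain ⟨a1, a2, a3⟩ := slope_arith (by exact_mod_cast hn0) (by exact_mod_cast hm0) hα1 hrkR hK hG hG' hq hC hmo hμ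
  have hz : gdeg k (kernel π) = 0 := by
    have h4 : gdeg k (kernel q) - gdeg k G ≤ 0 := by exact_mod_cast a1
    omega
  haveI : Mono π := Preadditive.mono_of_kernel_zero ((hℓ0 hz).eq_of_src _ _)
  haveI : IsIso π := isIso_of_mono_of_epi π
  refine ⟨G, p, j, hp, hj, hpj, hG0 hf0, hGf, ⟨grk (cokernel j), ?_⟩, le_antisymm hK a2, le_antisymm hG a3⟩
  subst hpj
  intro x
  obtain ⟨U, hx, ⟨e⟩⟩ := hP x
  exact ⟨U, hx, ⟨(Scheme.Modules.restrictFunctor U.ι).mapIso (cokernelEpiComp p j ≪≫ asIso π) ≪≫ e⟩⟩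

end Groth.Agent.ParGP23

namespace Groth.Agent.ParGP23

variable (k : Type u) [Field k] {X : Scheme.{u}} [X.Over (Spec (CommRingCat.of k))] [IsIntegral X]
  [IsLocallyNoetherian X] [IsProper (X ↘ Spec (CommRingCat.of k))]
  (hdim : topologicalKrullDim X = 1) (hn : ∀ x : X, IsIntegrallyClosed (X.presheaf.stalk x))
  (I : X.IdealSheafData) (hD : FGA.IsEffCartier I)
include k hdim hn hD

/-- Equality of parabolic degrees in a full rank parabolic monomorphism. -/
theorem mono_eq_iff {α : ℝ} (hα0 : 0 ≤ α) (hα1 : α < 1) {n : ℕ} {E F : X.Modules}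
    (hE : FlatMod.IsFinLocFreeOfRank n E) (hF : FlatMod.IsFinLocFreeOfRank n F) (f : E ⟶ F) [Mono f]
    {S : Submodule k (ParSh.fibD X I E)} {S' : Submodule k (ParSh.fibD X I F)}
    (hf : S.map (ParSh.fibDMap k X I f) ≤ S') :
    pd k α E S = pd k α F S' ↔ IsIso f ∧ (0 < α → S.map (ParSh.fibDMap k X I f) = S') := by
  have hEc : Coh.IsCoh E := SplitP1.isCoh_of_rank hE
  have hFc : Coh.IsCoh F := SplitP1.isCoh_of_rank hF
  haveI := finite_fibD k hdim.le I hD hEc
  haveI := finite_fibD k hdim.le I hD hFc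
  obtain ⟨hℓ, hiso⟩ := VB5.full_rank k hdim f hEc hFc (by rw [grk_eq hE, grk_eq hF])
  have hinj : gdeg k E = gdeg k F → Function.Injective (ParSh.fibDMap k X I f) := fun he => by
    have h := finrank_ker_le k hdim.le I hD hE hF f
    rw [← LinearMap.ker_eq_bot]
    exact Submodule.finrank_eq_zero.1 (by omega)
  have hmap : gdeg k E = gdeg k F →
      Module.finrank k (S.map (ParSh.fibDMap k X I f)) = Module.finrank k S := fun he =>
    (Submodule.equivMapOfInjective _ (hinj he) S).finrank_eq.symm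
  constructor
  · intro h
    have hm := mono_le k hdim hn I hD hα0 hE hF f hf
    have h2 : ((gdeg k F - gdeg k E : ℤ) : ℝ) ≤ 0 := by
      by_contra hc
      push Not at hc
      have := mul_pos (sub_pos.2 hα1) hc
      linarith
    have h3 : gdeg k F - gdeg k E ≤ 0 := by exact_mod_cast h2
    have he : gdeg k E = gdeg k F := by omega
    refine ⟨hiso he, fun hα => Submodule.eq_of_le_of_finrank_eq hf ?_⟩
    have h4 := h
    simp only [pd, he] at h4
    have h5 : (Module.finrank k S : ℝ) = (Module.finrank k S' : ℝ) :=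
      mul_left_cancel₀ hα.ne' (by linarith)
    rw [hmap he]
    exact_mod_cast h5
  · rintro ⟨hi, hS⟩
    haveI := hi
    have he : gdeg k E = gdeg k F := VB5.gdeg_congr k (asIso f)
    rcases hα0.eq_or_lt with h0 | h0
    · simp only [pd, he, ← h0, zero_mul]
    · rw [pd, pd, he, ← hmap he, hS h0]

/-- A nonzero parabolic map between stable objects of equal slope is an isomorphism. -/
theorem isIso_of_stable {α : ℝ} (hα0 : 0 ≤ α) (hα1 : α < 1) {n m : ℕ} (hn0 : 0 < n) (hm0 : 0 < m)
    {E F : X.Modules} (hE : FlatMod.IsFinLocFreeOfRank n E) (hF : FlatMod.IsFinLocFreeOfRank m F)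
    {F₁ : Submodule k (ParSh.fibD X I E)} {F₁' : Submodule k (ParSh.fibD X I F)}
    (hEss : ParSh.IsGPSemistable k X I α F₁ n) (hEst : ParSh.IsGPStable k X I α F₁ n)
    (hFss : ParSh.IsGPSemistable k X I α F₁' m) (hFst : ParSh.IsGPStable k X I α F₁' m)
    (hμ : pd k α E F₁ * (m : ℝ) = pd k α F F₁' * (n : ℝ))
    (f : E ⟶ F) (hf : F₁.map (ParSh.fibDMap k X I f) ≤ F₁') (hf0 : f ≠ 0) :
    IsIso f ∧ (0 < α → F₁.map (ParSh.fibDMap k X I f) = F₁') := by
  obtain ⟨G, p, j, hp, hj, hpj, hG0, hGf, -, hKeq, hGeq⟩ :=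
    exists_factor k hdim hn I hD hα0 hα1 hn0 hm0 hE hF hEss hFss hμ f hf hf0
  haveI := hp; haveI := hj
  have hEc : Coh.IsCoh E := SplitP1.isCoh_of_rank hE
  have hGc : Coh.IsCoh G := SplitP1.isCoh_of_rank hGf
  have hFc : Coh.IsCoh F := SplitP1.isCoh_of_rank hF
  have hKc := Coherent.isCoh_kernel p hEc hGc.1
  obtain ⟨-, hKf⟩ := VB5.sub_bundle hdim.le hn hE (kernel.ι p) hKc
  obtain ⟨hgm, -⟩ := VB5.sub_bundle hdim.le hn hF j hGc
  have hrk := grk_additive (EulerLib.shortExact_kernel p) hEc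
  change grk E = grk (kernel p) + grk G at hrk
  rw [grk_eq hE] at hrk
  have hm' : grk G = m := by
    by_contra hne
    have h := hFst G (grk G) j inferInstance hG0 (lt_of_le_of_ne hgm hne) hGf
    rw [gpDeg_eq_pd k α hGf, gpDeg_eq_pd k α hF] at h
    linarith
  have hK0 : grk (kernel p) = 0 := by
    by_contra hne
    have h := hEst (kernel p) (grk (kernel p)) (kernel.ι p) inferInstance (Nat.pos_of_ne_zero hne)
      (by omega) hKf
    rw [gpDeg_eq_pd k α hKf, gpDeg_eq_pd k α hE] at h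
    linarith
  haveI : Mono p := Preadditive.mono_of_kernel_zero
    ((VB5.zero_rank_sub k hdim hn hE (kernel.ι p) hKc hK0).1.eq_of_src _ _)
  obtain rfl : n = m := by omega
  haveI : Mono f := hpj ▸ mono_comp p j
  refine (mono_eq_iff k hdim hn I hD hα0 hα1 hE hF f hf).1 (mul_right_cancel₀ ?_ hμ)
  exact_mod_cast hn0.ne'

end Groth.Agent.ParGP23
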