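import Groth.Agent.VarietyLib.TensorExact
import Groth.Agent.DCat.PullTensor
import Groth.Agent.CurveRR24.Sky
import Groth.Prelude.Def_ParBun2

/-!
# Restriction of modules to a divisor: right exactness
-/

set_option autoImplicit false
set_option linter.style.haveILetI false
set_option backward.isDefEq.respectTransparency.types false

universe u

open CategoryTheory CategoryTheory.Limits AlgebraicGeometry Opposite TopologicalSpace MonoidalCategory
open Groth.Agent.ModStalk Groth.Agent.OmegaLib Groth.Agent.VarietyLib Groth.Agent.AmpleLib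

namespace Groth.Agent.ParGP23

variable {X : Scheme.{u}}

local notation "St" => DerSch.stalkFunctor X

/-- The two spellings of functoriality of the tensor product agree. -/
theorem koszMap_eq {M M' N N' : X.Modules} (φ : M ⟶ M') (ψ : N ⟶ N') :
    KoszTw.tensorMap φ ψ = AmpleLib.tensorMap φ ψ := by
  refine AmpleLib.hom_ext fun U a b => ?_
  rw [tensorMap_tmul]
  show (((DCoh.tensorBi (X := X)).obj M').map ψ).app U ((((DCoh.tensorBi (X := X)).map φ).app N).app U (tmul a b)) = _
  exact (congrArg _ (DCat.PullTensor.tensorBi_map_tmul φ U a b)).trans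
    (DCat.PullTensor.tensorBi_obj_map_tmul ψ U _ _)

/-- Tensoring with a fixed module is right exact. -/
theorem right_exact {S : ShortComplex X.Modules} (hS : S.ShortExact) (E : X.Modules) :
    ∃ hz : KoszTw.tensorMap S.f (𝟙 E) ≫ KoszTw.tensorMap S.g (𝟙 E) = 0,
      (ShortComplex.mk _ _ hz).Exact ∧ Epi (KoszTw.tensorMap S.g (𝟙 E)) := by
  let a := KoszTw.tensorMap S.f (𝟙 E)
  let b := KoszTw.tensorMap S.g (𝟙 E)
  have hex : ∀ x, Function.Exact ((St x).map a) ((St x).map b) ∧ Function.Surjective ((St x).map b) := by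
    intro x
    have hx := hS.map_of_exact (St x)
    let f := ((St x).map S.f).hom
    let g := ((St x).map S.g).hom
    have hfg : Function.Exact f g := (ShortComplex.ShortExact.moduleCat_exact_iff_function_exact _).mp hx.exact
    have hg : Function.Surjective g := (ModuleCat.epi_iff_surjective _).mp hx.epi_g
    let e₁ : ((St x).obj (CohB1.tensorMod S.X₁ E)) ≃ₗ[X.presheaf.stalk x]
        TensorProduct (X.presheaf.stalk x) ((St x).obj S.X₁) ((St x).obj E) :=
      (stalkTensorIso x S.X₁ E).toLinearEquiv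
    let e₂ : ((St x).obj (CohB1.tensorMod S.X₂ E)) ≃ₗ[X.presheaf.stalk x]
        TensorProduct (X.presheaf.stalk x) ((St x).obj S.X₂) ((St x).obj E) :=
      (stalkTensorIso x S.X₂ E).toLinearEquiv
    let e₃ : ((St x).obj (CohB1.tensorMod S.X₃ E)) ≃ₗ[X.presheaf.stalk x]
        TensorProduct (X.presheaf.stalk x) ((St x).obj S.X₃) ((St x).obj E) :=
      (stalkTensorIso x S.X₃ E).toLinearEquiv
    have ha : ∀ v, e₂ ((St x).map a v) = LinearMap.rTensor _ f (e₁ v) := fun v => stalk_tensorMap_id S.f E x v
    have hb : ∀ v, e₃ ((St x).map b v) = LinearMap.rTensor _ g (e₂ v) := fun v => stalk_tensorMap_id S.g E x v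
    have hg' := LinearMap.rTensor_surjective ((St x).obj E) hg
    have hfg' := rTensor_exact ((St x).obj E) hfg hg
    refine ⟨fun v => ⟨fun hv => ?_, ?_⟩, fun w => ?_⟩
    · obtain ⟨u, hu⟩ := (hfg' (e₂ v)).1 (by rw [← hb, hv, map_zero])
      refine ⟨e₁.symm u, e₂.injective ?_⟩
      rw [ha, e₁.apply_symm_apply, hu]
    · rintro ⟨u, rfl⟩
      refine e₃.injective ?_
      rw [hb, ha, hfg'.apply_apply_eq_zero, map_zero]
    · obtain ⟨u, hu⟩ := hg' (e₃ w)
      refine ⟨e₂.symm u, e₃.injective ?_⟩
      rw [hb, e₂.apply_symm_apply, hu]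
  have hz : a ≫ b = 0 := eq_zero_of_stalks _ fun x v => by
    rw [CategoryTheory.Functor.map_comp]
    exact (hex x).1.apply_apply_eq_zero v
  refine ⟨hz, exact_of_stalks (ShortComplex.mk a b hz) fun x => ?_,
    epi_of_stalks_surjective b fun x => (hex x).2⟩
  exact (ShortComplex.ShortExact.moduleCat_exact_iff_function_exact _).mpr (hex x).1

/-- A module surjects onto its restriction to a closed subscheme. -/
theorem exists_epi_resD (I : X.IdealSheafData) (E : X.Modules) : ∃ q : E ⟶ ParSh.resD I E, Epi q := by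
  obtain ⟨_, -, he⟩ := right_exact (CurveRR24.shortExact_ideal I) E
  haveI := he
  exact ⟨(unitTensorIso E).inv ≫ KoszTw.tensorMap (ClSub.toSubscheme I) (𝟙 E) ≫ (tensorComm _ E).hom,
    inferInstance⟩

end Groth.Agent.ParGP23
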