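import Groth.Agent.ParGP23.Stab

/-!
# Weights near one
-/

set_option autoImplicit false
set_option linter.style.haveILetI false
set_option linter.unusedSectionVars false
set_option backward.isDefEq.respectTransparency.types false

universe u

open CategoryTheory CategoryTheory.Limits AlgebraicGeometry
open Groth.Agent.VB5 (grk gdeg grk_eq)

namespace Groth.Agent.ParGP23

/-- The weight bound. -/
theorem weight_lt {α : ℝ} {d n : ℕ} (hd : 0 < d) (hn : 2 ≤ n)
    (hα : 1 - 1 / ((d : ℝ) * (n : ℝ) * ((n : ℝ) - 1)) < α) :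
    (1 - α) * ((d : ℝ) * (n : ℝ) * ((n : ℝ) - 1)) < 1 := by
  have h2 : (2 : ℝ) ≤ n := by exact_mod_cast hn
  have hd' : (0 : ℝ) < d := by exact_mod_cast hd
  have hp : 0 < (d : ℝ) * (n : ℝ) * ((n : ℝ) - 1) := by
    have h1 : (0 : ℝ) < (n : ℝ) - 1 := by linarith
    positivity
  have := mul_lt_mul_of_pos_right (show 1 - α < 1 / ((d : ℝ) * (n : ℝ) * ((n : ℝ) - 1)) by linarith) hp
  rwa [one_div_mul_cancel hp.ne'] at this

variable (k : Type u) [Field k] {X : Scheme.{u}} [X.Over (Spec (CommRingCat.of k))] [IsIntegral X]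
  [IsLocallyNoetherian X] [IsProper (X ↘ Spec (CommRingCat.of k))]
  (hdim : topologicalKrullDim X = 1) (hn' : ∀ x : X, IsIntegrallyClosed (X.presheaf.stalk x))
  (I : X.IdealSheafData) (hD : FGA.IsEffCartier I) {E : X.Modules} {n : ℕ} (hn : 2 ≤ n)
  (hE : FlatMod.IsFinLocFreeOfRank n E) (F₁ : Submodule k (ParSh.fibD X I E))
include k hdim hn' hD hn hE

/-- A subsheaf of full rank never destabilises. -/
theorem full_rank_le {α : ℝ} (hα0 : 0 ≤ α) (hα1 : α ≤ 1) {G : X.Modules} {r : ℕ} (i : G ⟶ E) [Mono i]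
    (hr : r = n) (hG : FlatMod.IsFinLocFreeOfRank r G) :
    ParSh.gpDeg k X α G (ParSh.gpInduced k X I i F₁) r * (n : ℝ) ≤ ParSh.gpDeg k X α E F₁ n * (r : ℝ) := by
  rw [gpDeg_eq_pd k α hE, gpDeg_eq_pd k α hG]
  subst hr
  have h := mono_le k hdim hn' I hD hα0 hG hE i (Submodule.map_comap_le _ F₁)
  have hℓ := (VB5.full_rank k hdim i (SplitP1.isCoh_of_rank hG) (SplitP1.isCoh_of_rank hE)
    (by rw [grk_eq hE, grk_eq hG])).1
  have h0 : (0 : ℝ) ≤ ((gdeg k E - gdeg k G : ℤ) : ℝ) := by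
    have : (0 : ℤ) ≤ gdeg k E - gdeg k G := by omega
    exact_mod_cast this
  have := mul_nonneg (sub_nonneg.2 hα1) h0
  refine mul_le_mul_of_nonneg_right ?_ (Nat.cast_nonneg _)
  show pd k α G (ParSh.gpInduced k X I i F₁) ≤ _
  change pd k α G (ParSh.gpInduced k X I i F₁) + _ ≤ _ at h
  linarith

/-- Stability implies semistability. -/
theorem ss_of_st {α : ℝ} (hα0 : 0 ≤ α) (hα1 : α ≤ 1) (h : ParSh.IsGPStable k X I α F₁ n) :
    ParSh.IsGPSemistable k X I α F₁ n := by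
  intro G r i hi hr hG
  haveI := hi
  obtain ⟨hle, -⟩ := VB5.sub_bundle hdim.le hn' hE i (SplitP1.isCoh_of_rank hG)
  rw [grk_eq hG] at hle
  rcases hle.eq_or_lt with e | e
  · exact full_rank_le k hdim hn' I hD hn hE F₁ hα0 hα1 i e hG
  · exact (h G r i hi hr e hG).le

variable (d : ℕ) (hd : 0 < d)
  (hdegD : ∀ (G : X.Modules) (r : ℕ), FlatMod.IsFinLocFreeOfRank r G → Module.finrank k (ParSh.fibD X I G) = r * d)
include hd hdegD

theorem finrank_le_deg {G : X.Modules} {r : ℕ} (hG : FlatMod.IsFinLocFreeOfRank r G)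
    (S : Submodule k (ParSh.fibD X I G)) : (Module.finrank k S : ℝ) ≤ (r : ℝ) * (d : ℝ) := by
  haveI := finite_fibD k hdim.le I hD (SplitP1.isCoh_of_rank hG)
  have := Submodule.finrank_le S
  rw [hdegD G r hG] at this
  exact_mod_cast this

variable {α : ℝ} (hα1 : α < 1) (hα : 1 - 1 / ((d : ℝ) * (n : ℝ) * ((n : ℝ) - 1)) < α)
include hα1 hα

/-- `α`-semistability gives `1`-semistability. -/
theorem ss_one (hss : ParSh.IsGPSemistable k X I α F₁ n) : ParSh.IsGPSemistable k X I 1 F₁ n := by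
  intro G r i hi hr hG
  haveI := hi
  obtain ⟨hle, -⟩ := VB5.sub_bundle hdim.le hn' hE i (SplitP1.isCoh_of_rank hG)
  rw [grk_eq hG] at hle
  rcases hle.eq_or_lt with e | e
  · exact full_rank_le k hdim hn' I hD hn hE F₁ zero_le_one le_rfl i e hG
  have h := hss G r i hi hr hG
  rw [gpDeg_eq_pd k α hG, gpDeg_eq_pd k α hE, pd, pd] at h
  rw [gpDeg_eq_pd k 1 hG, gpDeg_eq_pd k 1 hE, pd, pd]
  have hb := finrank_le_deg k hdim hn' I hD hn hE d hd hdegD hG (ParSh.gpInduced k X I i F₁)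
  generalize Module.finrank k (ParSh.gpInduced k X I i F₁) = b at h hb ⊢
  generalize Module.finrank k F₁ = a at h ⊢
  generalize gdeg k G = D' at h ⊢
  generalize gdeg k E = D at h ⊢
  have hr1 : (r : ℝ) ≤ (n : ℝ) - 1 := by
    have : (r : ℝ) + 1 ≤ n := by exact_mod_cast e
    linarith
  have hn0 : (0 : ℝ) ≤ n := Nat.cast_nonneg _
  have h1 : (b : ℝ) * n ≤ (d : ℝ) * n * ((n : ℝ) - 1) := by
    have := mul_le_mul_of_nonneg_right (hb.trans (mul_le_mul_of_nonneg_right hr1 (Nat.cast_nonneg d))) hn0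
    linarith
  have h2 := mul_le_mul_of_nonneg_left h1 (sub_nonneg.2 hα1.le)
  have h3 : 0 ≤ (1 - α) * ((a : ℝ) * r) := mul_nonneg (sub_nonneg.2 hα1.le) (by positivity)
  have hw := weight_lt hd hn hα
  have hN : (((D' + b) * n - (D + a) * r : ℤ) : ℝ) < ((1 : ℤ) : ℝ) := by
    push_cast
    linarith
  have hN' : (((D' + b) * n - (D + a) * r : ℤ) : ℝ) ≤ ((0 : ℤ) : ℝ) := by
    have := Int.cast_lt.1 hN
    exact_mod_cast (show (D' + b) * n - (D + a) * r ≤ (0 : ℤ) by omega)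
  push_cast at hN'
  linarith

/-- `1`-stability gives `α`-stability. -/
theorem st_of_st_one (hst : ParSh.IsGPStable k X I 1 F₁ n) : ParSh.IsGPStable k X I α F₁ n := by
  intro G r i hi hr e hG
  have h := hst G r i hi hr e hG
  rw [gpDeg_eq_pd k 1 hG, gpDeg_eq_pd k 1 hE, pd, pd] at h
  rw [gpDeg_eq_pd k α hG, gpDeg_eq_pd k α hE, pd, pd]
  have ha := finrank_le_deg k hdim hn' I hD hn hE d hd hdegD hE F₁
  generalize Module.finrank k (ParSh.gpInduced k X I i F₁) = b at h ⊢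
  generalize Module.finrank k F₁ = a at h ha ⊢
  generalize gdeg k G = D' at h ⊢
  generalize gdeg k E = D at h ⊢
  have hr1 : (r : ℝ) ≤ (n : ℝ) - 1 := by
    have : (r : ℝ) + 1 ≤ n := by exact_mod_cast e
    linarith
  have h1 : (a : ℝ) * r ≤ (d : ℝ) * n * ((n : ℝ) - 1) := by
    have := mul_le_mul ha hr1 (Nat.cast_nonneg r) (by positivity)
    linarith
  have h2 := mul_le_mul_of_nonneg_left h1 (sub_nonneg.2 hα1.le)
  have h3 : 0 ≤ (1 - α) * ((b : ℝ) * n) := mul_nonneg (sub_nonneg.2 hα1.le) (by positivity)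
  have hw := weight_lt hd hn hα
  have hN : (((D' + b) * n - (D + a) * r : ℤ) : ℝ) ≤ ((-1 : ℤ) : ℝ) := by
    have hlt : (((D' + b) * n - (D + a) * r : ℤ) : ℝ) < ((0 : ℤ) : ℝ) := by
      push_cast
      linarith
    have := Int.cast_lt.1 hlt
    exact_mod_cast (show (D' + b) * n - (D + a) * r ≤ (-1 : ℤ) by omega)
  push_cast at hN
  linarith

omit hd hdegD hα1 hα in
/-- Coprime rank and degree: `1`-semistable is `1`-stable. -/
theorem st_one_of_ss (hcop : IsCoprime (n : ℤ) (Curv2.deg k X E n)) (a : ℕ)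
    (ha : Module.finrank k F₁ = a * n) (hss : ParSh.IsGPSemistable k X I 1 F₁ n) :
    ParSh.IsGPStable k X I 1 F₁ n := by
  intro G r i hi hr e hG
  have h := hss G r i hi hr hG
  refine lt_of_le_of_ne h fun heq => ?_
  rw [gpDeg_eq_pd k 1 hG, gpDeg_eq_pd k 1 hE, pd, pd, ha] at heq
  rw [VB5.deg_eq_gdeg k hE] at hcop
  generalize Module.finrank k (ParSh.gpInduced k X I i F₁) = b at heq
  generalize gdeg k G = D' at heq
  generalize gdeg k E = D at heq hcop
  have hz : (((D' + b) * n : ℤ) : ℝ) = (((D + a * n) * r : ℤ) : ℝ) := by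
    push_cast at heq ⊢
    linarith
  have hz' : (D' + b) * (n : ℤ) = (D + a * n) * r := Int.cast_injective hz
  have hdvd : (n : ℤ) ∣ D * r := ⟨D' + b - a * r, by linarith⟩
  have h' := Int.le_of_dvd (by exact_mod_cast hr) (hcop.dvd_of_dvd_mul_left hdvd)
  omega

end Groth.Agent.ParGP23
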